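import Cfsg.Agent.Lib.Comp.Chain
import Mathlib.Data.Fintype.EquivFin
import Mathlib.Data.Fintype.Perm
import Mathlib.Data.Nat.Bitwise
import Mathlib.GroupTheory.GroupAction.Defs
import Mathlib.GroupTheory.GroupAction.Transitive
import Mathlib.GroupTheory.GroupAction.Blocks

/-!
Permutations of `Fin n` coded as one natural number, 8 bits per point, for kernel computation.
Use with `Cfsg.Agent.Lib.Comp.Chain`; certificates are written by `tools/chaincert.py`.
-/

set_option autoImplicit false

namespace CfsgLib.Comp.PermCode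

/-- image of the point `i` under the coded permutation `p` -/
def get (p i : ℕ) : ℕ := Nat.mod (Nat.shiftRight p (Nat.mul 8 i)) 256

/-- the code with entries `f i` for `i < k` -/
noncomputable def build (k : ℕ) (f : ℕ → ℕ) : ℕ :=
  Nat.rec 0 (fun j ih => Nat.add ih (Nat.shiftLeft (f j) (Nat.mul 8 j))) k

/-- composition, `(mul n p q) i = p (q i)` -/
noncomputable def mul (n p q : ℕ) : ℕ :=
  Nat.rec 0 (fun j ih => Nat.add ih (Nat.shiftLeft (Nat.mod (Nat.shiftRight p
    (Nat.mul 8 (Nat.mod (Nat.shiftRight q (Nat.mul 8 j)) 256))) 256) (Nat.mul 8 j))) n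

/-- the identity code -/
noncomputable def one (n : ℕ) : ℕ := build n (fun i => i)

/-- action on points -/
def act (n p x : ℕ) : ℕ := bif Nat.blt x n then get p x else x

/-- bounded universal quantifier as a boolean -/
noncomputable def allLt (k : ℕ) (f : ℕ → Bool) : Bool := Nat.rec true (fun j ih => f j && ih) k

/-- the set of images as a bit mask -/
noncomputable def mask (k p : ℕ) : ℕ :=
  Nat.rec 0 (fun j ih => Nat.lor ih (Nat.shiftLeft 1 (get p j))) k

/-- validity of a code -/
noncomputable def okb (n p : ℕ) : Bool :=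
  allLt n (fun i => Nat.blt (get p i) n) && Nat.beq (mask n p) (Nat.sub (Nat.pow 2 n) 1)

/-- validity as a proposition -/
def Ok (n p : ℕ) : Prop :=
  (∀ i, i < n → get p i < n) ∧ ∀ i j, i < n → j < n → get p i = get p j → i = j

open scoped Classical in
/-- the permutation coded by `p` (the identity for invalid codes) -/
noncomputable def val (n p : ℕ) : Equiv.Perm (Fin n) :=
  if h : Ok n p then
    Equiv.ofBijective (fun i => ⟨get p i, h.1 i i.2⟩)
      (Finite.injective_iff_bijective.1 fun i j hij =>
        Fin.ext (h.2 i j i.2 j.2 (congrArg Fin.val hij)))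
  else 1

theorem build_zero (f : ℕ → ℕ) : build 0 f = 0 := rfl

theorem build_succ (k : ℕ) (f : ℕ → ℕ) : build (k + 1) f = build k f + (f k <<< (8 * k)) := rfl

theorem mul_eq_build (n p q : ℕ) : mul n p q = build n (fun i => get p (get q i)) := rfl

theorem allLt_succ (k : ℕ) (f : ℕ → Bool) : allLt (k + 1) f = (f k && allLt k f) := rfl

theorem mask_succ (k p : ℕ) : mask (k + 1) p = mask k p ||| (1 <<< get p k) := rfl

theorem get_def (p i : ℕ) : get p i = (p >>> (8 * i)) % 256 := rfl

theorem allLt_spec {f : ℕ → Bool} : ∀ {k : ℕ}, allLt k f = true → ∀ i, i < k → f i = true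
  | 0, _, i, hi => absurd hi (by omega)
  | k + 1, h, i, hi => by
    rw [allLt_succ, Bool.and_eq_true] at h
    rcases Nat.lt_succ_iff_lt_or_eq.1 hi with hi | rfl
    · exact allLt_spec h.2 i hi
    · exact h.1

theorem allLt_of {f : ℕ → Bool} : ∀ {k : ℕ}, (∀ i, i < k → f i = true) → allLt k f = true
  | 0, _ => rfl
  | k + 1, h => by
    rw [allLt_succ, h k (by omega), allLt_of (f := f) (k := k) (fun i hi => h i (by omega))]
    rfl

theorem exists_of_testBit_mask {p : ℕ} :
    ∀ {k j : ℕ}, (mask k p).testBit j = true → ∃ i, i < k ∧ get p i = j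
  | 0, j, h => by simp [show mask 0 p = 0 from rfl] at h
  | k + 1, j, h => by
    rw [mask_succ, Nat.testBit_lor, Bool.or_eq_true] at h
    rcases h with h | h
    · obtain ⟨i, hi, he⟩ := exists_of_testBit_mask h
      exact ⟨i, by omega, he⟩
    · rw [Nat.one_shiftLeft, Nat.testBit_two_pow, decide_eq_true_eq] at h
      exact ⟨k, by omega, h⟩

theorem ok_of_okb {n p : ℕ} (h : okb n p = true) : Ok n p := by
  simp only [okb, Bool.and_eq_true] at h
  have h1 : ∀ i, i < n → get p i < n := fun i hi => by
    have := allLt_spec h.1 i hi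
    simpa [Nat.blt_eq] using this
  have h2 : mask n p = 2 ^ n - 1 := Nat.eq_of_beq_eq_true h.2
  refine ⟨h1, fun i j hi hj he => ?_⟩
  have hsurj : Function.Surjective (fun i : Fin n => (⟨get p i, h1 i i.2⟩ : Fin n)) := by
    intro y
    obtain ⟨i, hi, he⟩ := exists_of_testBit_mask (p := p) (k := n) (j := y) (by
      rw [h2, Nat.testBit_two_pow_sub_one, decide_eq_true_eq]; exact y.2)
    exact ⟨⟨i, hi⟩, Fin.ext he⟩
  have := Finite.injective_iff_surjective.2 hsurj (a₁ := ⟨i, hi⟩) (a₂ := ⟨j, hj⟩) (Fin.ext he)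
  simpa using this

theorem build_lt : ∀ (k : ℕ) (f : ℕ → ℕ), (∀ i, i < k → f i < 256) → build k f < 2 ^ (8 * k)
  | 0, _, _ => by simp [build_zero]
  | k + 1, f, h => by
    have ih := build_lt k f (fun i hi => h i (by omega))
    have hk := h k (by omega)
    rw [build_succ, Nat.shiftLeft_eq]
    have : 2 ^ (8 * (k + 1)) = 256 * 2 ^ (8 * k) := by
      rw [show 8 * (k + 1) = 8 + 8 * k by omega, Nat.pow_add]
    rw [this]
    calc build k f + f k * 2 ^ (8 * k) < 2 ^ (8 * k) + f k * 2 ^ (8 * k) := by omega
      _ = (f k + 1) * 2 ^ (8 * k) := by rw [Nat.add_mul, Nat.one_mul, Nat.add_comm]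
      _ ≤ 256 * 2 ^ (8 * k) := Nat.mul_le_mul_right _ (by omega)

theorem get_build : ∀ (k : ℕ) (f : ℕ → ℕ), (∀ i, i < k → f i < 256) →
    ∀ i, i < k → get (build k f) i = f i
  | 0, _, _, i, hi => absurd hi (by omega)
  | k + 1, f, h, i, hi => by
    have hlt := build_lt k f (fun j hj => h j (by omega))
    rw [get_def, build_succ, Nat.shiftRight_eq_div_pow, Nat.shiftLeft_eq]
    rcases Nat.lt_succ_iff_lt_or_eq.1 hi with hi | rfl
    · have ih := get_build k f (fun j hj => h j (by omega)) i hi
      rw [get_def, Nat.shiftRight_eq_div_pow] at ih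
      obtain ⟨d, rfl⟩ : ∃ d, k = i + (d + 1) := ⟨k - i - 1, by omega⟩
      rw [show 8 * (i + (d + 1)) = 8 * i + (8 + 8 * d) by omega, Nat.pow_add, Nat.pow_add,
        show f (i + (d + 1)) * (2 ^ (8 * i) * (2 ^ 8 * 2 ^ (8 * d)))
          = 2 ^ (8 * i) * (256 * (f (i + (d + 1)) * 2 ^ (8 * d))) by
            rw [show (2 : ℕ) ^ 8 = 256 by rfl]; ac_rfl,
        Nat.add_mul_div_left _ _ (Nat.two_pow_pos _), Nat.add_mul_mod_self_left, ih]
    · rw [Nat.add_mul_div_right _ _ (Nat.two_pow_pos _), Nat.div_eq_of_lt hlt, Nat.zero_add,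
        Nat.mod_eq_of_lt (h i hi)]

theorem val_apply {n p : ℕ} (h : Ok n p) (i : Fin n) : ((val n p) i : ℕ) = get p i := by
  simp [val, h]

theorem get_mul {n p q : ℕ} (hn : n ≤ 256) (hp : Ok n p) (hq : Ok n q) {i : ℕ} (hi : i < n) :
    get (mul n p q) i = get p (get q i) :=
  (mul_eq_build n p q).symm ▸ get_build n _ (fun j hj => Nat.lt_of_lt_of_le (hp.1 _ (hq.1 j hj)) hn) i hi

theorem get_one {n : ℕ} (hn : n ≤ 256) {i : ℕ} (hi : i < n) : get (one n) i = i :=
  get_build n _ (fun j hj => Nat.lt_of_lt_of_le hj hn) i hi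

theorem ok_mul {n p q : ℕ} (hn : n ≤ 256) (hp : Ok n p) (hq : Ok n q) : Ok n (mul n p q) := by
  refine ⟨fun i hi => ?_, fun i j hi hj he => ?_⟩
  · rw [get_mul hn hp hq hi]; exact hp.1 _ (hq.1 i hi)
  · rw [get_mul hn hp hq hi, get_mul hn hp hq hj] at he
    exact hq.2 i j hi hj (hp.2 _ _ (hq.1 i hi) (hq.1 j hj) he)

theorem ok_one {n : ℕ} (hn : n ≤ 256) : Ok n (one n) := by
  refine ⟨fun i hi => ?_, fun i j hi hj he => ?_⟩
  · rw [get_one hn hi]; exact hi
  · rwa [get_one hn hi, get_one hn hj] at he

theorem val_mul {n p q : ℕ} (hn : n ≤ 256) (hp : Ok n p) (hq : Ok n q) :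
    val n (mul n p q) = val n p * val n q := by
  apply Equiv.ext
  intro i
  apply Fin.ext
  rw [Equiv.Perm.mul_apply, val_apply (ok_mul hn hp hq), val_apply hp, val_apply hq,
    get_mul hn hp hq i.2]

theorem val_one {n : ℕ} (hn : n ≤ 256) : val n (one n) = 1 := by
  apply Equiv.ext
  intro i
  apply Fin.ext
  rw [val_apply (ok_one hn), get_one hn i.2]
  rfl

/-- the action on natural numbers of permutations of `Fin n` -/
def pt {n : ℕ} (g : Equiv.Perm (Fin n)) (x : ℕ) : ℕ := if h : x < n then (g ⟨x, h⟩ : ℕ) else x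

theorem act_val {n p : ℕ} (h : Ok n p) (x : ℕ) : act n p x = pt (val n p) x := by
  unfold PermCode.act PermCode.pt
  by_cases hx : x < n
  · have hb : Nat.blt x n = true := by simpa [Nat.blt_eq] using hx
    simp [hx, hb, val_apply h]
  · have : Nat.blt x n = false := Bool.eq_false_iff.2 (by simp [Nat.blt_eq]; omega)
    simp [hx, this]

/-- The model of permutations of `Fin n`, `n ≤ 256`. -/
noncomputable def model (n : ℕ) (hn : n ≤ 256) : Model ℕ (Equiv.Perm (Fin n)) where
  mul := mul n
  one := one n
  act := act n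
  beq := Nat.beq
  okb := okb n
  val := val n
  pt := pt
  pt_one x := by simp [pt]
  pt_mul g h x := by
    by_cases hx : x < n
    · simp [pt, hx]
    · simp [pt, hx]
  ok := Ok n
  ok_of_okb _ h := ok_of_okb h
  ok_one := ok_one hn
  ok_mul _ _ hp hq := ok_mul hn hp hq
  val_one := val_one hn
  val_mul _ _ hp hq := val_mul hn hp hq
  act_val _ x h := act_val h x
  beq_val a b h := by rw [Nat.eq_of_beq_eq_true h]

/-- a test that a permutation agrees with a code -/
theorem val_eq_of {n p : ℕ} (h : okb n p = true) (g : Equiv.Perm (Fin n))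
    (hg : ∀ i : Fin n, (g i : ℕ) = get p i) : val n p = g := by
  apply Equiv.ext
  intro i
  apply Fin.ext
  rw [val_apply (ok_of_okb h), hg i]

/-- the subgroup generated by coded permutations -/
def span (n : ℕ) (gens : List ℕ) : Subgroup (Equiv.Perm (Fin n)) :=
  Subgroup.closure {g | ∃ s ∈ gens, val n s = g}

theorem span_eq_model {n : ℕ} (hn : n ≤ 256) (gens : List ℕ) :
    span n gens = (model n hn).span gens := rfl

/-- checker specialised to coded permutations -/
noncomputable def sift (n : ℕ) : List (Level ℕ) → ℕ → Bool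
  | [], h => Nat.beq h (one n)
  | l :: rest, h =>
    match ((one n, one n) :: l.trans.map (fun e => (e.1, e.2.1))).find?
        (fun u => Nat.beq (act n u.1 l.base) (act n h l.base)) with
    | none => false
    | some u => sift n rest (mul n u.2 h)

theorem sift_eq_model {n : ℕ} (hn : n ≤ 256) : ∀ (chain : List (Level ℕ)) (h : ℕ),
    sift n chain h = (model n hn).sift chain h
  | [], _ => rfl
  | l :: rest, h => by
    simp only [sift, Model.sift, Model.tpairs]
    dsimp only [model]
    split <;> rename_i heq <;> simp [heq, sift_eq_model hn rest, model]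

variable {n : ℕ}

/-- order of a generated permutation group from a certificate -/
theorem card_span {hn : n ≤ 256} {gens : List ℕ} {slp : List (ℕ × ℕ × ℕ)} {chain : List (Level ℕ)}
    {N : ℕ} (h : (model n hn).check gens slp chain = true) (hN : order chain = N) :
    Nat.card (span n gens) = N :=
  (model n hn).card_span_of_check h hN

/-- membership from a successful sift -/
theorem mem_span {hn : n ≤ 256} {gens : List ℕ} {slp : List (ℕ × ℕ × ℕ)} {chain : List (Level ℕ)}
    (h : (model n hn).check gens slp chain = true) {a : ℕ} (ha : okb n a = true)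
    (hs : sift n chain a = true) : val n a ∈ span n gens :=
  ((model n hn).check_spec h).2.2 a (ok_of_okb ha) (by rw [← sift_eq_model hn]; exact hs)

theorem one_le (n : ℕ) (gens : List ℕ) {s : ℕ} (hs : s ∈ gens) : val n s ∈ span n gens :=
  Subgroup.subset_closure ⟨s, hs, rfl⟩

/-- if the first level's transversal meets every point, the group is transitive -/
theorem isPretransitive {hn : n ≤ 256} {gens : List ℕ} {slp : List (ℕ × ℕ × ℕ)}
    {l : Level ℕ} {rest : List (Level ℕ)}
    (h : (model n hn).check gens slp (l :: rest) = true) (hb : l.base < n)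
    (hall : allLt n (fun x => ((one n, one n) :: l.trans.map (fun e => (e.1, e.2.1))).any
      (fun u => Nat.beq (act n u.1 l.base) x)) = true) :
    MulAction.IsPretransitive (span n gens) (Fin n) := by
  obtain ⟨helts, -, -⟩ := (model n hn).check_spec h
  simp only [Model.check, Bool.and_eq_true] at h
  have good := (model n hn).checkChain_spec
    (fun a ha => ((model n hn).table_spec h.1.1.1 h.1.1.2 a ha).1) _ h.1.2
  have key : ∀ x : Fin n, ∃ g : span n gens, g • (⟨l.base, hb⟩ : Fin n) = x := by
    intro x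
    obtain ⟨u, hu, hux⟩ := List.any_eq_true.1 (allLt_spec hall x x.2)
    have hu' : u ∈ (model n hn).tpairs l := hu
    have hmem : val n u.1 ∈ span n gens := by
      rw [span_eq_model hn, ← SetLike.mem_coe, ← helts]
      refine ⟨u, hu', 1, ?_, by simp [model]⟩
      have hrest := ((model n hn).checkChain_spec
        (fun a ha => ((model n hn).table_spec h.1.1.1 h.1.1.2 a ha).1) rest (by
          have := h.1.2
          simp only [Model.checkChain, Bool.and_eq_true] at this
          exact this.1.1.1.1))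
      rw [hrest.elts]
      exact Subgroup.one_mem _
    refine ⟨⟨_, hmem⟩, Fin.ext ?_⟩
    have hokU : Ok n u.1 := (good.tr l (List.mem_cons_self ..) u hu').1
    have := Nat.eq_of_beq_eq_true hux
    rw [act_val hokU] at this
    simpa [pt, hb, Subgroup.smul_def] using this
  constructor
  intro x y
  obtain ⟨g, rfl⟩ := key x
  obtain ⟨k, rfl⟩ := key y
  exact ⟨k * g⁻¹, by rw [← mul_smul, inv_mul_cancel_right]⟩

end CfsgLib.Comp.PermCode
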