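import Mathlib.GroupTheory.Perm.Basic
import Mathlib.Algebra.Group.Subgroup.Basic
import Mathlib.Algebra.Group.Subgroup.Lattice
import Mathlib.GroupTheory.Finiteness
import Mathlib.GroupTheory.OrderOfElement
import Mathlib.SetTheory.Cardinal.Finite

/-!
Stabilizer-chain certificates checked by the kernel, generic in a computational model.

A certificate is a straight-line program `slp` from the given generators plus a list of levels.
`check_spec` says: if `check` evaluates to `true`, the subgroup generated by the generators is the set of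
products of one transversal element per level, and its order is the product of the transversal lengths.
-/

set_option autoImplicit false

namespace CfsgLib.Comp

/-- A computational model of a group acting on natural numbers. -/
structure Model (β : Type*) (G : Type*) [Group G] where
  mul : β → β → β
  one : β
  act : β → ℕ → ℕ
  beq : β → β → Bool
  okb : β → Bool
  val : β → G
  pt : G → ℕ → ℕ
  pt_one : ∀ x, pt 1 x = x
  pt_mul : ∀ g h x, pt (g * h) x = pt g (pt h x)
  ok : β → Prop
  ok_of_okb : ∀ a, okb a = true → ok a
  ok_one : ok one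
  ok_mul : ∀ a b, ok a → ok b → ok (mul a b)
  val_one : val one = 1
  val_mul : ∀ a b, ok a → ok b → val (mul a b) = val a * val b
  act_val : ∀ a x, ok a → act a x = pt (val a) x
  beq_val : ∀ a b, beq a b = true → val a = val b

/-- A level of a certificate: base point, new strong generators (indices into the straight-line program
table), and transversal entries `(u, uinv, (s, parent))` meaning `u = S[s] * T[parent]`. -/
structure Level (β : Type*) where
  base : ℕ
  new : List ℕ
  trans : List (β × β × ℕ × ℕ)

namespace Model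

variable {β : Type*} {G : Type*} [Group G] (M : Model β G)

/-- The table of the straight-line program: the generators, followed by the listed values. -/
def table (gens : List β) (slp : List (β × ℕ × ℕ)) : List β := gens ++ slp.map Prod.fst

def getOr (l : List β) (i : ℕ) : β := l.getD i M.one

/-- check that every slp entry is the product of two earlier entries -/
def checkSlp : List β → List (β × ℕ × ℕ) → Bool
  | _, [] => true
  | acc, (v, i, j) :: rest =>
    decide (i < acc.length) && decide (j < acc.length) && M.okb v &&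
      M.beq v (M.mul (M.getOr acc i) (M.getOr acc j)) && checkSlp (acc ++ [v]) rest

/-- strong generators of a chain -/
def sgens (tab : List β) : List (Level β) → List β
  | [] => []
  | l :: rest => l.new.map (fun i => M.getOr tab i) ++ sgens tab rest

/-- transversal with inverses -/
def tpairs (l : Level β) : List (β × β) :=
  (M.one, M.one) :: l.trans.map (fun e => (e.1, e.2.1))

/-- sifting through a chain -/
def sift : List (Level β) → β → Bool
  | [], h => M.beq h M.one
  | l :: rest, h =>
    match (M.tpairs l).find? (fun u => Nat.beq (M.act u.1 l.base) (M.act h l.base)) with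
    | none => false
    | some u => sift rest (M.mul u.2 h)

/-- check of transversal construction -/
def checkTree (S : List β) : List β → List (β × β × ℕ × ℕ) → Bool
  | _, [] => true
  | acc, (u, v, i, j) :: rest =>
    decide (i < S.length) && decide (j < acc.length) && M.okb v &&
      M.beq u (M.mul (M.getOr S i) (M.getOr acc j)) && M.okb u && M.beq (M.mul v u) M.one &&
      checkTree S (acc ++ [u]) rest

/-- every product of a strong generator and a transversal element decomposes through the chain -/
def checkClosed (S : List β) (chain : List (Level β)) (T : List β) : Bool :=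
  S.all (fun s => T.all (fun u => sift M chain (M.mul s u)))

/-- boolean duplicate test -/
def nodupb : List ℕ → Bool
  | [] => true
  | a :: rest => !(rest.any (Nat.beq a)) && nodupb rest

def checkChain (tab : List β) : List (Level β) → Bool
  | [] => true
  | l :: rest =>
    checkChain tab rest &&
      checkTree M (M.sgens tab (l :: rest)) [M.one] l.trans &&
      checkClosed M (M.sgens tab (l :: rest)) (l :: rest) ((M.tpairs l).map Prod.fst) &&
      (M.sgens tab rest).all (fun s => Nat.beq (M.act s l.base) l.base) &&
      nodupb (((M.tpairs l).map Prod.fst).map (fun u => M.act u l.base))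

/-- the complete check of a certificate -/
def check (gens : List β) (slp : List (β × ℕ × ℕ)) (chain : List (Level β)) : Bool :=
  gens.all M.okb && checkSlp M gens slp && checkChain M (table gens slp) chain &&
    gens.all (sift M chain)

end Model

/-- the order claimed by a chain -/
def order {β : Type*} : List (Level β) → ℕ
  | [] => 1
  | l :: rest => (l.trans.length + 1) * order rest

namespace Model

variable {β : Type*} {G : Type*} [Group G] (M : Model β G)

/-- the subgroup generated by a list of codes -/
def span (S : List β) : Subgroup G := Subgroup.closure {g | ∃ s ∈ S, M.val s = g}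

theorem val_mem_span {S : List β} {s : β} (h : s ∈ S) : M.val s ∈ M.span S :=
  Subgroup.subset_closure ⟨s, h, rfl⟩

theorem span_le {S : List β} {H : Subgroup G} (h : ∀ s ∈ S, M.val s ∈ H) : M.span S ≤ H :=
  (Subgroup.closure_le H).2 (by rintro g ⟨s, hs, rfl⟩; exact h s hs)

/-- the elements described by a chain -/
def Elts : List (Level β) → Set G
  | [] => {1}
  | l :: rest => {g | ∃ u ∈ M.tpairs l, ∃ h ∈ Elts rest, g = M.val u.1 * h}

theorem getOr_mem_or {l : List β} {i : ℕ} (h : i < l.length) : M.getOr l i ∈ l := by
  unfold Model.getOr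
  rw [List.getD_eq_getElem?_getD, List.getElem?_eq_getElem h]
  exact List.getElem_mem h

theorem getOr_cases (l : List β) (i : ℕ) : M.getOr l i ∈ l ∨ M.getOr l i = M.one := by
  by_cases h : i < l.length
  · exact Or.inl (M.getOr_mem_or h)
  · right
    unfold Model.getOr
    rw [List.getD_eq_getElem?_getD, List.getElem?_eq_none (by omega)]
    rfl

theorem checkSlp_spec {H : Subgroup G} : ∀ (slp : List (β × ℕ × ℕ)) (acc : List β),
    (∀ a ∈ acc, M.ok a ∧ M.val a ∈ H) → M.checkSlp acc slp = true →
    ∀ a ∈ slp.map Prod.fst, M.ok a ∧ M.val a ∈ H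
  | [], _, _, _ => by simp
  | (v, i, j) :: rest, acc, hacc, h => by
    simp only [checkSlp, Bool.and_eq_true, decide_eq_true_eq] at h
    obtain ⟨⟨⟨⟨hi, hj⟩, hv⟩, he⟩, hrest⟩ := h
    have hv' : M.ok v := M.ok_of_okb v hv
    have hvH : M.val v ∈ H := by
      rw [M.beq_val _ _ he, M.val_mul _ _ (hacc _ (M.getOr_mem_or hi)).1 (hacc _ (M.getOr_mem_or hj)).1]
      exact H.mul_mem (hacc _ (M.getOr_mem_or hi)).2 (hacc _ (M.getOr_mem_or hj)).2
    have ih := checkSlp_spec rest (acc ++ [v]) (by
      intro a ha
      simp only [List.mem_append, List.mem_singleton] at ha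
      rcases ha with ha | rfl
      · exact hacc a ha
      · exact ⟨hv', hvH⟩) hrest
    intro a ha
    simp only [List.map_cons, List.mem_cons] at ha
    rcases ha with rfl | ha
    · exact ⟨hv', hvH⟩
    · exact ih a ha

theorem table_spec {gens : List β} {slp : List (β × ℕ × ℕ)} (hg : gens.all M.okb = true)
    (h : M.checkSlp gens slp = true) :
    ∀ a ∈ table gens slp, M.ok a ∧ M.val a ∈ M.span gens := by
  have h0 : ∀ a ∈ gens, M.ok a ∧ M.val a ∈ M.span gens := fun a ha =>
    ⟨M.ok_of_okb a (List.all_eq_true.1 hg a ha), M.val_mem_span ha⟩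
  intro a ha
  simp only [table, List.mem_append] at ha
  rcases ha with ha | ha
  · exact h0 a ha
  · exact M.checkSlp_spec slp gens h0 h a ha

theorem checkTree_spec {S : List β} {H : Subgroup G} (hS : ∀ s ∈ S, M.ok s ∧ M.val s ∈ H) :
    ∀ (tr : List (β × β × ℕ × ℕ)) (acc : List β),
    (∀ a ∈ acc, M.ok a ∧ M.val a ∈ H) → M.checkTree S acc tr = true →
    ∀ e ∈ tr, M.ok e.1 ∧ M.ok e.2.1 ∧ M.val e.1 ∈ H ∧ M.val e.2.1 = (M.val e.1)⁻¹
  | [], _, _, _ => by simp
  | (u, v, i, j) :: rest, acc, hacc, h => by
    simp only [checkTree, Bool.and_eq_true, decide_eq_true_eq] at h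
    obtain ⟨⟨⟨⟨⟨⟨hi, hj⟩, hv⟩, he⟩, hu⟩, hinv⟩, hrest⟩ := h
    have hu' : M.ok u := M.ok_of_okb u hu
    have hv' : M.ok v := M.ok_of_okb v hv
    have huH : M.val u ∈ H := by
      rw [M.beq_val _ _ he, M.val_mul _ _ (hS _ (M.getOr_mem_or hi)).1 (hacc _ (M.getOr_mem_or hj)).1]
      exact H.mul_mem (hS _ (M.getOr_mem_or hi)).2 (hacc _ (M.getOr_mem_or hj)).2
    have hvu : M.val v = (M.val u)⁻¹ := by
      apply eq_inv_of_mul_eq_one_left
      rw [← M.val_mul v u hv' hu', M.beq_val _ _ hinv, M.val_one]
    have ih := checkTree_spec hS rest (acc ++ [u]) (by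
      intro a ha
      simp only [List.mem_append, List.mem_singleton] at ha
      rcases ha with ha | rfl
      · exact hacc a ha
      · exact ⟨hu', huH⟩) hrest
    intro e he
    simp only [List.mem_cons] at he
    rcases he with rfl | he
    · exact ⟨hu', hv', huH, hvu⟩
    · exact ih e he

theorem nodupb_spec : ∀ l : List ℕ, nodupb l = true → l.Nodup
  | [], _ => List.nodup_nil
  | a :: rest, h => by
    simp only [nodupb, Bool.and_eq_true, Bool.not_eq_true', List.any_eq_false] at h
    refine List.nodup_cons.2 ⟨fun ha => ?_, nodupb_spec rest h.2⟩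
    exact h.1 a ha (by simp)

theorem sgens_spec {tab : List β} {H : Subgroup G} (htab : ∀ a ∈ tab, M.ok a ∧ M.val a ∈ H) :
    ∀ (chain : List (Level β)), ∀ s ∈ M.sgens tab chain, M.ok s ∧ M.val s ∈ H
  | [] => by simp [sgens]
  | l :: rest => by
    intro s hs
    simp only [sgens, List.mem_append, List.mem_map] at hs
    rcases hs with ⟨i, _, rfl⟩ | hs
    · rcases M.getOr_cases tab i with h | h
      · exact htab _ h
      · rw [h]; exact ⟨M.ok_one, by rw [M.val_one]; exact H.one_mem⟩
    · exact sgens_spec htab rest s hs

theorem pt_eq_of_mem {S : List β} {b : ℕ} (h : ∀ s ∈ S, M.pt (M.val s) b = b) :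
    ∀ g ∈ M.span S, M.pt g b = b := by
  let K : Subgroup G :=
    { carrier := {g | M.pt g b = b}
      one_mem' := M.pt_one b
      mul_mem' := by
        intro x y hx hy
        simp only [Set.mem_ofPred_eq] at hx hy ⊢
        rw [M.pt_mul, hy, hx]
      inv_mem' := by
        intro x hx
        simp only [Set.mem_ofPred_eq] at hx ⊢
        calc M.pt x⁻¹ b = M.pt x⁻¹ (M.pt x b) := by rw [hx]
          _ = M.pt (x⁻¹ * x) b := (M.pt_mul _ _ _).symm
          _ = b := by rw [inv_mul_cancel, M.pt_one] }
  intro g hg
  exact (M.span_le (H := K) h) hg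

/-- the chain invariant -/
structure Good (tab : List β) (chain : List (Level β)) : Prop where
  elts : M.Elts chain = (M.span (M.sgens tab chain) : Set G)
  card : Nat.card (M.span (M.sgens tab chain)) = order chain
  tr : ∀ l ∈ chain, ∀ u ∈ M.tpairs l, M.ok u.1 ∧ M.ok u.2 ∧ M.val u.2 = (M.val u.1)⁻¹

theorem sift_mem : ∀ (chain : List (Level β)),
    (∀ l ∈ chain, ∀ u ∈ M.tpairs l, M.ok u.1 ∧ M.ok u.2 ∧ M.val u.2 = (M.val u.1)⁻¹) →
    ∀ h, M.ok h → M.sift chain h = true → M.val h ∈ M.Elts chain
  | [], _, h, _, hs => by
    simp only [sift] at hs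
    simp [Elts, M.beq_val _ _ hs, M.val_one]
  | l :: rest, htr, h, hok, hs => by
    simp only [sift] at hs
    split at hs
    · exact absurd hs (by simp)
    · next u hu =>
      have hmem : u ∈ M.tpairs l := List.mem_of_find?_eq_some hu
      obtain ⟨h1, h2, h3⟩ := htr l (List.mem_cons_self ..) u hmem
      have ih := sift_mem rest (fun l' hl' => htr l' (List.mem_cons_of_mem _ hl'))
        (M.mul u.2 h) (M.ok_mul _ _ h2 hok) hs
      refine ⟨u, hmem, _, ih, ?_⟩
      rw [M.val_mul _ _ h2 hok, h3]
      simp

theorem good_cons {tab : List β} (htab : ∀ a ∈ tab, M.ok a) {l : Level β} {rest : List (Level β)}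
    [Finite G] (hrest : M.Good tab rest)
    (htree : M.checkTree (M.sgens tab (l :: rest)) [M.one] l.trans = true)
    (hclosed : M.checkClosed (M.sgens tab (l :: rest)) (l :: rest) ((M.tpairs l).map Prod.fst) = true)
    (hfix : (M.sgens tab rest).all (fun s => Nat.beq (M.act s l.base) l.base) = true)
    (hdist : nodupb (((M.tpairs l).map Prod.fst).map (fun u => M.act u l.base)) = true) :
    M.Good tab (l :: rest) := by
  have hok : ∀ c : List (Level β), ∀ s ∈ M.sgens tab c, M.ok s := fun c s hs =>
    (M.sgens_spec (H := ⊤) (fun a ha => ⟨htab a ha, Subgroup.mem_top _⟩) c s hs).1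
  set S := M.sgens tab (l :: rest) with hSdef
  have htree' := M.checkTree_spec (H := M.span S)
    (fun s hs => ⟨hok _ s hs, M.val_mem_span hs⟩) l.trans [M.one]
    (by
      intro a ha
      obtain rfl := List.mem_singleton.1 ha
      exact ⟨M.ok_one, by rw [M.val_one]; exact Subgroup.one_mem _⟩) htree
  have hT : ∀ u ∈ M.tpairs l, M.ok u.1 ∧ M.ok u.2 ∧ M.val u.1 ∈ M.span S ∧
      M.val u.2 = (M.val u.1)⁻¹ := by
    intro u hu
    simp only [tpairs, List.mem_cons, List.mem_map] at hu
    rcases hu with rfl | ⟨e, he, rfl⟩
    · exact ⟨M.ok_one, M.ok_one, by rw [M.val_one]; exact Subgroup.one_mem _, by simp [M.val_one]⟩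
    · exact htree' e he
  have htr : ∀ l' ∈ l :: rest, ∀ u ∈ M.tpairs l',
      M.ok u.1 ∧ M.ok u.2 ∧ M.val u.2 = (M.val u.1)⁻¹ := by
    intro l' hl' u hu
    rcases List.mem_cons.1 hl' with rfl | hl'
    · exact ⟨(hT u hu).1, (hT u hu).2.1, (hT u hu).2.2.2⟩
    · exact hrest.tr l' hl' u hu
  have hsub : M.span (M.sgens tab rest) ≤ M.span S :=
    M.span_le (fun s hs => M.val_mem_span (by
      simp only [hSdef, sgens, List.mem_append]; exact Or.inr hs))
  -- the products lie in the span
  have hle : M.Elts (l :: rest) ⊆ (M.span S : Set G) := by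
    rintro g ⟨u, hu, h, hh, rfl⟩
    rw [hrest.elts] at hh
    exact Subgroup.mul_mem _ (hT u hu).2.2.1 (hsub hh)
  -- the products are closed under left multiplication by generators
  have hstep : ∀ s ∈ S, ∀ g ∈ M.Elts (l :: rest), M.val s * g ∈ M.Elts (l :: rest) := by
    rintro s hs g ⟨u, hu, h, hh, rfl⟩
    have hsift := List.all_eq_true.1 (List.all_eq_true.1 hclosed s hs) u.1
      (List.mem_map.2 ⟨u, hu, rfl⟩)
    obtain ⟨u', hu', k, hk, he⟩ :=
      M.sift_mem (l :: rest) htr _ (M.ok_mul _ _ (hok _ s hs) (hT u hu).1) hsift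
    rw [M.val_mul _ _ (hok _ s hs) (hT u hu).1] at he
    refine ⟨u', hu', k * h, ?_, by rw [← mul_assoc, he, mul_assoc]⟩
    rw [hrest.elts] at hk hh ⊢
    exact Subgroup.mul_mem _ hk hh
  have hone : (1 : G) ∈ M.Elts (l :: rest) := by
    refine ⟨(M.one, M.one), by simp [tpairs], 1, ?_, by simp [M.val_one]⟩
    rw [hrest.elts]
    exact Subgroup.one_mem _
  have hge : (M.span S : Set G) ⊆ M.Elts (l :: rest) := by
    intro g hg
    have hg' : g ∈ Submonoid.closure {g | ∃ s ∈ S, M.val s = g} := by
      rw [← Subgroup.closure_toSubmonoid_of_finite]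
      exact hg
    induction hg' using Submonoid.closure_induction_left with
    | one => exact hone
    | mul_left x hx y hy ih =>
      obtain ⟨s, hs, rfl⟩ := hx
      refine hstep s hs y (ih ?_)
      have : M.val s * y ∈ M.span S := hg
      exact (Subgroup.mul_mem_cancel_left _ (M.val_mem_span hs)).1 this
  have helts : M.Elts (l :: rest) = (M.span S : Set G) := Set.Subset.antisymm hle hge
  refine ⟨helts, ?_, htr⟩
  -- counting
  let T := M.tpairs l
  let f : Fin T.length × M.span (M.sgens tab rest) → M.span S := fun p =>
    ⟨M.val T[p.1].1 * p.2, Subgroup.mul_mem _ (hT _ (List.getElem_mem _)).2.2.1 (hsub p.2.2)⟩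
  have hfb : Function.Bijective f := by
    constructor
    · rintro ⟨i, x⟩ ⟨j, y⟩ hxy
      have he : M.val T[i].1 * (x : G) = M.val T[j].1 * (y : G) := congrArg Subtype.val hxy
      have hfixpt : ∀ g ∈ M.span (M.sgens tab rest), M.pt g l.base = l.base :=
        M.pt_eq_of_mem (fun s hs => by
          rw [← M.act_val s _ (hok _ s hs)]
          exact Nat.eq_of_beq_eq_true (List.all_eq_true.1 hfix s hs))
      have hact : M.act T[i].1 l.base = M.act T[j].1 l.base := by
        rw [M.act_val T[i].1 _ (hT _ (List.getElem_mem i.2)).1,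
          M.act_val T[j].1 _ (hT _ (List.getElem_mem j.2)).1]
        have := congrArg (fun g => M.pt g l.base) he
        simpa [M.pt_mul, hfixpt _ x.2, hfixpt _ y.2] using this
      have hij : i = j := by
        have hn := nodupb_spec _ hdist
        apply Fin.ext
        refine (List.Nodup.getElem_inj_iff hn (hi := by simp [T]) (hj := by simp [T])).1 ?_
        simpa [T] using hact
      subst hij
      simp only [mul_right_inj] at he
      exact Prod.ext rfl (Subtype.ext he)
    · rintro ⟨g, hg⟩
      obtain ⟨u, hu, h, hh, rfl⟩ := hge hg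
      obtain ⟨i, hi, rfl⟩ := List.getElem_of_mem hu
      exact ⟨(⟨i, hi⟩, ⟨h, by rw [hrest.elts] at hh; exact hh⟩), rfl⟩
  rw [← Nat.card_eq_of_bijective f hfb, Nat.card_prod, hrest.card]
  simp [T, tpairs, order]

theorem checkChain_spec [Finite G] {tab : List β} (htab : ∀ a ∈ tab, M.ok a) :
    ∀ chain : List (Level β), M.checkChain tab chain = true → M.Good tab chain
  | [], _ => by
    refine ⟨?_, ?_, by simp⟩
    · simp [Elts, sgens, span]
    · simp [sgens, span, order]
  | l :: rest, h => by
    simp only [checkChain, Bool.and_eq_true] at h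
    obtain ⟨⟨⟨⟨h1, h2⟩, h3⟩, h4⟩, h5⟩ := h
    exact M.good_cons htab (checkChain_spec htab rest h1) h2 h3 h4 h5

/-- Main soundness theorem: generated subgroup, order, and membership by sifting. -/
theorem check_spec [Finite G] {gens : List β} {slp : List (β × ℕ × ℕ)} {chain : List (Level β)}
    (h : M.check gens slp chain = true) :
    M.Elts chain = (M.span gens : Set G) ∧ Nat.card (M.span gens) = order chain ∧
      ∀ a, M.ok a → M.sift chain a = true → M.val a ∈ M.span gens := by
  simp only [check, Bool.and_eq_true] at h
  obtain ⟨⟨⟨hg, hslp⟩, hchain⟩, hsift⟩ := h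
  have htab := M.table_spec hg hslp
  have good := M.checkChain_spec (fun a ha => (htab a ha).1) chain hchain
  have hspan : M.span (M.sgens (table gens slp) chain) = M.span gens := by
    apply le_antisymm
    · exact M.span_le (fun s hs => (M.sgens_spec htab chain s hs).2)
    · refine M.span_le (fun s hs => ?_)
      have hs' := M.sift_mem chain good.tr s (M.ok_of_okb s (List.all_eq_true.1 hg s hs))
        (List.all_eq_true.1 hsift s hs)
      rwa [good.elts] at hs'
  refine ⟨by rw [good.elts, hspan], by rw [← hspan]; exact good.card, fun a ha hs => ?_⟩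
  have := M.sift_mem chain good.tr a ha hs
  rwa [good.elts, hspan] at this

theorem card_span_of_check [Finite G] {gens : List β} {slp : List (β × ℕ × ℕ)}
    {chain : List (Level β)} {n : ℕ} (h : M.check gens slp chain = true) (hn : order chain = n) :
    Nat.card (M.span gens) = n :=
  (M.check_spec h).2.1.trans hn

end Model

end CfsgLib.Comp
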