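import Cfsg.Agent.Lib.Comp.PermChain
import Mathlib.GroupTheory.OrderOfElement
import Mathlib.Data.List.Nodup

/-!
The elements of a certified permutation group as a list of codes, and their orders.
-/

set_option autoImplicit false

namespace CfsgLib.Comp.PermCode

/-- The products of one transversal element per level. -/
noncomputable def eltsList (n : ℕ) : List (Level ℕ) → List ℕ
  | [] => [one n]
  | l :: rest => ((one n, one n) :: l.trans.map (fun e => (e.1, e.2.1))).flatMap
      fun u => (eltsList n rest).map fun h => mul n u.1 h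

theorem eltsList_spec {n : ℕ} (hn : n ≤ 256) : ∀ (chain : List (Level ℕ)),
    (∀ l ∈ chain, ∀ u ∈ (model n hn).tpairs l, Ok n u.1) →
    (∀ c ∈ eltsList n chain, Ok n c) ∧
      ∀ g, g ∈ (model n hn).Elts chain ↔ ∃ c ∈ eltsList n chain, val n c = g
  | [], _ => by
    refine ⟨fun c hc => ?_, fun g => ?_⟩
    · simp only [eltsList, List.mem_singleton] at hc
      exact hc ▸ ok_one hn
    · simp only [eltsList, List.mem_singleton, exists_eq_left, Model.Elts, Set.mem_singleton_iff]
      rw [val_one hn]
      exact eq_comm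
  | l :: rest, htr => by
    obtain ⟨ih1, ih2⟩ := eltsList_spec hn rest fun l' hl' => htr l' (List.mem_cons_of_mem _ hl')
    have hT : ∀ u ∈ (one n, one n) :: l.trans.map (fun e => (e.1, e.2.1)), Ok n u.1 :=
      htr l (List.mem_cons_self ..)
    refine ⟨fun c hc => ?_, fun g => ?_⟩
    · simp only [eltsList, List.mem_flatMap, List.mem_map] at hc
      obtain ⟨u, hu, h, hh, rfl⟩ := hc
      exact ok_mul hn (hT u (by simpa using hu)) (ih1 h hh)
    · simp only [eltsList, List.mem_flatMap, List.mem_map]
      constructor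
      · rintro ⟨u, hu, h, hh, rfl⟩
        obtain ⟨c, hc, rfl⟩ := (ih2 h).1 hh
        exact ⟨_, ⟨u, by simpa [Model.tpairs, model] using hu, c, hc, rfl⟩,
          val_mul hn (hT u hu) (ih1 c hc)⟩
      · rintro ⟨_, ⟨u, hu, c, hc, rfl⟩, rfl⟩
        have hu' : u ∈ (one n, one n) :: l.trans.map (fun e => (e.1, e.2.1)) := by simpa using hu
        exact ⟨u, hu', val n c, (ih2 _).2 ⟨c, hc, rfl⟩, val_mul hn (hT u hu') (ih1 c hc)⟩

/-- A certified group is listed, without repetition when the length is the order. -/
theorem eltsList_of_check {n : ℕ} {hn : n ≤ 256} {gens : List ℕ} {slp : List (ℕ × ℕ × ℕ)}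
    {chain : List (Level ℕ)} (h : (model n hn).check gens slp chain = true) :
    (∀ c ∈ eltsList n chain, Ok n c) ∧
      (∀ g, g ∈ span n gens ↔ ∃ c ∈ eltsList n chain, val n c = g) ∧
      ((eltsList n chain).length = order chain → ((eltsList n chain).map (val n)).Nodup) := by
  obtain ⟨helts, hcard, -⟩ := (model n hn).check_spec h
  simp only [Model.check, Bool.and_eq_true] at h
  have good := (model n hn).checkChain_spec
    (fun a ha => ((model n hn).table_spec h.1.1.1 h.1.1.2 a ha).1) _ h.1.2
  obtain ⟨h1, h2⟩ := eltsList_spec hn chain fun l hl u hu => (good.tr l hl u hu).1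
  have hmem : ∀ g, g ∈ span n gens ↔ ∃ c ∈ eltsList n chain, val n c = g := fun g => by
    rw [span_eq_model hn, ← SetLike.mem_coe, ← helts, h2]
  refine ⟨h1, hmem, fun hlen => ?_⟩
  classical
  rw [← List.dedup_eq_self]
  refine List.Sublist.eq_of_length (List.dedup_sublist _) ?_
  have e : Nat.card (span n gens) = ((eltsList n chain).map (val n)).toFinset.card := by
    rw [← Nat.card_eq_finsetCard]
    refine Nat.card_congr (Equiv.subtypeEquivRight fun g => ?_)
    rw [hmem, List.mem_toFinset, List.mem_map]
  rw [List.length_map, hlen, ← List.card_toFinset, ← e, span_eq_model hn, hcard]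

/-- The order of a coded permutation, if below the fuel (else `0`). -/
noncomputable def ordGo (n c fuel : ℕ) : ℕ → ℕ → ℕ :=
  Nat.rec (fun _ _ => 0) (fun _ ih j p => bif Nat.beq p (one n) then j else ih (j + 1) (mul n p c)) fuel

/-- The order of a coded permutation, if at most the fuel. -/
noncomputable def ordc (n c fuel : ℕ) : ℕ := ordGo n c fuel 1 (mul n (one n) c)

theorem build_congr : ∀ (k : ℕ) (f g : ℕ → ℕ), (∀ i, i < k → f i = g i) → build k f = build k g
  | 0, _, _, _ => rfl
  | k + 1, f, g, h => by
    rw [build_succ, build_succ, build_congr k f g fun i hi => h i (by omega), h k (Nat.lt_succ_self k)]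

theorem mul_eq_one_of_val {n p q : ℕ} (hn : n ≤ 256) (hp : Ok n p) (hq : Ok n q)
    (h : val n p * val n q = 1) : mul n p q = one n := by
  rw [mul_eq_build, one]
  refine build_congr n _ _ fun i hi => ?_
  have e := congrArg (fun g : Equiv.Perm (Fin n) => ((g ⟨i, hi⟩ : Fin n) : ℕ)) h
  simp only [Equiv.Perm.mul_apply, Equiv.Perm.one_apply] at e
  rwa [val_apply hp, val_apply hq] at e

theorem ordGo_spec {n c : ℕ} (hn : n ≤ 256) (hc : Ok n c) : ∀ (fuel j p : ℕ), Ok n p →
    val n p = val n c ^ j → (∀ i, 0 < i → i < j → val n c ^ i ≠ 1) → 0 < j →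
    (val n c ^ j = 1 → p = one n) → ordGo n c fuel j p ≠ 0 → orderOf (val n c) = ordGo n c fuel j p
  | 0, j, p, _, _, _, _, _, hne => absurd rfl hne
  | fuel + 1, j, p, hp, hv, hmin, hj, hone, hne => by
    have e : ordGo n c (fuel + 1) j p =
        bif Nat.beq p (one n) then j else ordGo n c fuel (j + 1) (mul n p c) := rfl
    rw [e] at hne ⊢
    cases hb : Nat.beq p (one n) with
    | true =>
      rw [cond_true]
      have hpj : val n c ^ j = 1 := by rw [← hv, Nat.eq_of_beq_eq_true hb, val_one hn]
      refine (orderOf_eq_iff hj).2 ⟨hpj, fun i hi hi0 => hmin i hi0 hi⟩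
    | false =>
      rw [hb, cond_false] at hne
      rw [cond_false]
      have hvs : val n (mul n p c) = val n c ^ (j + 1) := by rw [val_mul hn hp hc, hv, pow_succ]
      refine ordGo_spec hn hc fuel (j + 1) _ (ok_mul hn hp hc) hvs (fun i hi0 hi => ?_) (by omega)
        (fun h => mul_eq_one_of_val hn hp hc (by rw [← val_mul hn hp hc, hvs, h])) hne
      rcases Nat.lt_succ_iff_lt_or_eq.1 hi with hlt | rfl
      · exact hmin i hi0 hlt
      · intro h
        rw [hone h, Nat.beq_refl] at hb
        exact Bool.noConfusion hb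

theorem orderOf_of_ordc {n c fuel : ℕ} (hn : n ≤ 256) (hc : Ok n c) (h : ordc n c fuel ≠ 0) :
    orderOf (val n c) = ordc n c fuel := by
  have h1 : val n (mul n (one n) c) = val n c ^ 1 := by
    rw [val_mul hn (ok_one hn) hc, val_one hn, one_mul, pow_one]
  refine ordGo_spec hn hc fuel 1 _ (ok_mul hn (ok_one hn) hc) h1 (fun i h0 hi => by omega) one_pos
    (fun hh => ?_) h
  rw [pow_one] at hh
  exact mul_eq_one_of_val hn (ok_one hn) hc (by rw [val_one hn, one_mul, hh])

/-- Numbers of elements of each order from a list of the orders. -/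
theorem card_orderOf_eq {n : ℕ} {hn : n ≤ 256} {gens : List ℕ} {slp : List (ℕ × ℕ × ℕ)}
    {chain : List (Level ℕ)} (h : (model n hn).check gens slp chain = true) {fuel : ℕ} {os : List ℕ}
    (hos : (eltsList n chain).map (fun c => ordc n c fuel) = os) (hlen : os.length = order chain)
    (hpos : os.all (fun o => Nat.blt 0 o) = true) (k : ℕ) :
    Nat.card {g : span n gens // orderOf g = k} = os.countP (fun o => o == k) := by
  classical
  obtain ⟨hok, hmem, hnd⟩ := eltsList_of_check h
  have hnd' := hnd (by rw [← hlen, ← hos, List.length_map])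
  have hord : ∀ c ∈ eltsList n chain, orderOf (val n c) = ordc n c fuel := fun c hc => by
    refine orderOf_of_ordc hn (hok c hc) fun e => ?_
    have := List.all_eq_true.1 hpos _ (hos ▸ List.mem_map.2 ⟨c, hc, rfl⟩)
    rw [e] at this
    exact absurd this (by decide)
  have e1 : os.countP (fun o => o == k) = (((eltsList n chain).map (val n)).filter fun g => orderOf g == k).length := by
    rw [← hos, List.countP_map, ← List.countP_eq_length_filter, List.countP_map]
    refine List.countP_congr fun c hc => ?_
    simp [hord c hc]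
  rw [e1, ← List.toFinset_card_of_nodup (hnd'.filter _), ← Nat.card_eq_finsetCard]
  refine Nat.card_congr (((Equiv.subtypeEquivRight fun g => ?_).trans
    (Equiv.subtypeSubtypeEquivSubtypeInter (fun g => g ∈ span n gens) fun g => orderOf g = k)).trans
    (Equiv.subtypeEquivRight fun g => ?_))
  · rw [Subgroup.orderOf_coe]
  · rw [List.mem_toFinset, List.mem_filter, List.mem_map, hmem]
    simp

end CfsgLib.Comp.PermCode
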